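import Groth.Agent.H17.ZFlat.Pullback
import Groth.Agent.H10Coh.FinType2

/-!
# Descent of coherence along faithfully flat quasi-compact morphisms
-/

set_option autoImplicit false
set_option linter.style.haveILetI false
universe u

open CategoryTheory CategoryTheory.Limits AlgebraicGeometry TopologicalSpace Opposite
open scoped TensorProduct

namespace Groth.Agent.H17.ZFlat

open Groth.Agent.H17.AssPts

/-- A submodule which generates after flat base change contains everything up to primes in the image. -/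
theorem exists_smul_mem_of_baseChange {A A' : Type u} [CommRing A] [CommRing A'] [Algebra A A'] [Module.Flat A A']
    {N N' : Type u} [AddCommGroup N] [Module A N] [AddCommGroup N'] [Module A N'] [Module A' N']
    [IsScalarTower A A' N'] (g : N →ₗ[A] N') (hg : IsBaseChange A' g) (S : Submodule A N)
    (hS : Submodule.span A' (g '' S) = ⊤) (P : Ideal A') [P.IsPrime] (q : N) :
    ∃ a : A, algebraMap A A' a ∉ P ∧ a • q ∈ S := by
  let J : Ideal A := S.comap (LinearMap.toSpanSingleton A N q)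
  by_contra hc
  push_neg at hc
  have hJP : ∀ a ∈ J, algebraMap A A' a ∈ P := fun a ha => by
    by_contra h
    exact hc a h (by simpa [J] using ha)
  have hzero : ∀ t : A' ⊗[A] N, (S.mkQ).lTensor A' t = 0 := by
    intro t
    have ht : hg.equiv t ∈ Submodule.span A' (g '' S) := by rw [hS]; trivial
    rw [← hg.equiv.symm_apply_apply t]
    generalize hg.equiv t = y at ht
    induction ht using Submodule.span_induction with
    | mem y hy =>
      obtain ⟨n, hn, rfl⟩ := hy
      rw [hg.equiv_symm_apply, LinearMap.lTensor_tmul, Submodule.mkQ_apply, (Submodule.Quotient.mk_eq_zero S).2 hn,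
        TensorProduct.tmul_zero]
    | zero => rw [map_zero, map_zero]
    | add y z _ _ hy hz => rw [map_add, map_add, hy, hz, add_zero]
    | smul a y _ hy =>
      rw [map_smul]
      generalize hg.equiv.symm y = s at hy
      rw [show (S.mkQ).lTensor A' (a • s) = a • (S.mkQ).baseChange A' s by
        rw [← map_smul (S.mkQ.baseChange A') a s]; rfl]
      rw [show (S.mkQ).baseChange A' s = 0 from hy, smul_zero]
  let ι : (A ⧸ J) →ₗ[A] N ⧸ S := J.liftQ (S.mkQ ∘ₗ LinearMap.toSpanSingleton A N q) (by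
    intro a ha
    rw [LinearMap.mem_ker, LinearMap.comp_apply, Submodule.mkQ_apply, Submodule.Quotient.mk_eq_zero]
    exact ha)
  have hι : Function.Injective ι := by
    rw [← LinearMap.ker_eq_bot]
    refine Submodule.ker_liftQ_eq_bot _ _ _ ?_
    intro a ha
    rw [LinearMap.mem_ker, LinearMap.comp_apply, Submodule.mkQ_apply, Submodule.Quotient.mk_eq_zero] at ha
    exact ha
  have h1 : ι.lTensor A' (1 ⊗ₜ Submodule.Quotient.mk 1) = 0 := by
    rw [LinearMap.lTensor_tmul]
    have h2 := hzero (1 ⊗ₜ q)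
    rw [LinearMap.lTensor_tmul] at h2
    rw [← h2]
    congr 1
    show ι (Submodule.Quotient.mk 1) = _
    rw [Submodule.liftQ_apply, LinearMap.comp_apply, LinearMap.toSpanSingleton_apply, one_smul]
  have h2 : (1 : A') ⊗ₜ[A] (Submodule.Quotient.mk 1 : A ⧸ J) = 0 :=
    Module.Flat.lTensor_preserves_injective_linearMap ι hι (h1.trans (map_zero _).symm)
  let φ : A' ⊗[A] (A ⧸ J) →ₗ[A'] A' ⧸ P :=
    LinearMap.liftBaseChange A' (J.liftQ (Algebra.linearMap A (A' ⧸ P)) (fun a ha => by
      rw [LinearMap.mem_ker, Algebra.linearMap_apply, IsScalarTower.algebraMap_apply A A' (A' ⧸ P),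
        Ideal.Quotient.algebraMap_eq, Ideal.Quotient.eq_zero_iff_mem]
      exact hJP a ha))
  have h3 := congrArg φ h2
  rw [map_zero] at h3
  simp only [φ, LinearMap.liftBaseChange_tmul, one_smul, Submodule.liftQ_apply, Algebra.linearMap_apply,
    map_one] at h3
  exact one_ne_zero h3

variable {X X' : Scheme.{u}}

/-- Coherence descends along flat surjective quasi-compact morphisms. -/
theorem isCoh_of_isCoh_pullback [IsLocallyNoetherian X] (f : X' ⟶ X) [Flat f] [Surjective f] [QuasiCompact f]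
    (G : X.Modules) (hG : Coh.IsQCoh G) (h : Coh.IsCoh ((Scheme.Modules.pullback f).obj G)) : Coh.IsCoh G := by
  classical
  refine (H10Coh.isCoh_iff_finite_sections G).2 ⟨hG, fun W hW => ?_⟩
  have hqc : IsCompact ((f ⁻¹ᵁ W : X'.Opens) : Set X') := f.isCompact_preimage hW.isCompact
  have hcov : ∀ x : (f ⁻¹ᵁ W : X'.Opens), ∃ U : X'.Opens, IsAffineOpen U ∧ x.1 ∈ U ∧ U ≤ f ⁻¹ᵁ W := fun x => by
    obtain ⟨U, hU, hx, hle⟩ := exists_isAffineOpen_mem_and_subset (U := f ⁻¹ᵁ W) x.2
    exact ⟨U, hU, hx, fun _ hy => hle hy⟩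
  choose U hU hxU hUW using hcov
  obtain ⟨K, hK⟩ := hqc.elim_finite_subcover (fun x => (U x : Set X')) (fun x => (U x).2)
    (fun x hx => Set.mem_iUnion.2 ⟨⟨x, hx⟩, hxU _⟩)
  have hgen : ∀ k, ∃ S : Finset Γ(G, W), Submodule.span Γ(X', U k)
      ((fun m => ((Scheme.Modules.pullback f).obj G).presheaf.map (homOfLE (hUW k)).op
        (OmegaSh.pullSect f G W m)) '' (S : Set Γ(G, W))) = ⊤ := by
    intro k
    letI := (f.appLE W (U k) (hUW k)).hom.toAlgebra
    letI := Module.compHom Γ((Scheme.Modules.pullback f).obj G, U k) (f.appLE W (U k) (hUW k)).hom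
    haveI : IsScalarTower Γ(X, W) Γ(X', U k) Γ((Scheme.Modules.pullback f).obj G, U k) :=
      .of_algebraMap_smul fun _ _ => rfl
    haveI : Module.Finite Γ(X', U k) Γ((Scheme.Modules.pullback f).obj G, U k) :=
      @H10Coh.finite_sections _ _ h.1 h.2 _ (hU k)
    have hbc := H8Props.PullSections.isBaseChange_pullLin f G (hUW k) hG hW (hU k)
    obtain ⟨T, hT⟩ := Module.Finite.fg_top (R := Γ(X', U k)) (M := Γ((Scheme.Modules.pullback f).obj G, U k))
    have hall : Submodule.span Γ(X', U k) (Set.range (H8Props.PullSections.pullLin f G (hUW k))) = ⊤ := by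
      refine eq_top_iff.2 fun y hy => ?_
      clear hy
      obtain ⟨t, rfl⟩ := hbc.equiv.surjective y
      induction t using TensorProduct.induction_on with
      | zero => rw [map_zero]; exact zero_mem _
      | add a b ha hb => rw [map_add]; exact add_mem ha hb
      | tmul a m => rw [hbc.equiv_tmul]; exact Submodule.smul_mem _ _ (Submodule.subset_span ⟨m, rfl⟩)
    have hT' : ∀ t ∈ T, ∃ S : Finset Γ(G, W), t ∈ Submodule.span Γ(X', U k)
        ((H8Props.PullSections.pullLin f G (hUW k)) '' (S : Set Γ(G, W))) := by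
      intro t ht0
      clear ht0
      have ht : t ∈ Submodule.span Γ(X', U k) (Set.range (H8Props.PullSections.pullLin f G (hUW k))) := hall ▸ trivial
      induction ht using Submodule.span_induction with
      | mem y hy => obtain ⟨m, rfl⟩ := hy; exact ⟨{m}, Submodule.subset_span ⟨m, by simp, rfl⟩⟩
      | zero => exact ⟨∅, zero_mem _⟩
      | add a b _ _ ha hb =>
        obtain ⟨S₁, h₁⟩ := ha
        obtain ⟨S₂, h₂⟩ := hb
        exact ⟨S₁ ∪ S₂, add_mem (Submodule.span_mono (Set.image_mono (by simp)) h₁)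
          (Submodule.span_mono (Set.image_mono (by simp)) h₂)⟩
      | smul a y _ hy => obtain ⟨S₁, h₁⟩ := hy; exact ⟨S₁, Submodule.smul_mem _ _ h₁⟩
    choose S hS using hT'
    refine ⟨T.attach.biUnion fun t => S t.1 t.2, eq_top_iff.2 ?_⟩
    rw [← hT, Submodule.span_le]
    intro t ht
    refine Submodule.span_mono (Set.image_mono ?_) (hS t ht)
    intro m hm
    exact Finset.mem_coe.2 (Finset.mem_biUnion.2 ⟨⟨t, ht⟩, Finset.mem_attach _ _, hm⟩)
  choose S hS using hgen
  refine ⟨⟨K.biUnion S, eq_top_iff.2 fun q _ => ?_⟩⟩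
  let Sp : Submodule Γ(X, W) Γ(G, W) := Submodule.span Γ(X, W) (K.biUnion S : Set Γ(G, W))
  show q ∈ Sp
  by_contra hq
  have hne : Sp.comap (LinearMap.toSpanSingleton Γ(X, W) Γ(G, W) q) ≠ ⊤ := fun e => hq (by
    have h1 : (1 : Γ(X, W)) ∈ Sp.comap (LinearMap.toSpanSingleton Γ(X, W) Γ(G, W) q) := e ▸ trivial
    simpa using h1)
  obtain ⟨p, hp, hle⟩ := Ideal.exists_le_maximal _ hne
  obtain ⟨⟨z, hzW⟩, hz⟩ := H29Blow.exists_primeIdealOf_eq hW ⟨p, hp.isPrime⟩
  obtain ⟨x', rfl⟩ := f.surjective z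
  obtain ⟨k, hkK, hxk⟩ := Set.mem_iUnion₂.1 (hK (show x' ∈ (f ⁻¹ᵁ W : X'.Opens) from hzW))
  letI := (f.appLE W (U k) (hUW k)).hom.toAlgebra
  letI := Module.compHom Γ((Scheme.Modules.pullback f).obj G, U k) (f.appLE W (U k) (hUW k)).hom
  haveI : IsScalarTower Γ(X, W) Γ(X', U k) Γ((Scheme.Modules.pullback f).obj G, U k) :=
    .of_algebraMap_smul fun _ _ => rfl
  haveI : Module.Flat Γ(X, W) Γ(X', U k) := f.flat_appLE hW (hU k) (hUW k)
  haveI := ((hU k).primeIdealOf ⟨x', hxk⟩).isPrime
  obtain ⟨a, ha, haq⟩ := exists_smul_mem_of_baseChange (H8Props.PullSections.pullLin f G (hUW k))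
    (H8Props.PullSections.isBaseChange_pullLin f G (hUW k) hG hW (hU k)) Sp
    (eq_top_iff.2 ((hS k).ge.trans (Submodule.span_mono (Set.image_mono fun m hm =>
      Submodule.subset_span (Finset.mem_coe.2 (Finset.mem_biUnion.2 ⟨k, hkK, hm⟩))))))
    ((hU k).primeIdealOf ⟨x', hxk⟩).asIdeal q
  have hpz : (hW.primeIdealOf ⟨f.base x', hzW⟩).asIdeal = p := congrArg PrimeSpectrum.asIdeal hz
  have h1 : a ∈ (hW.primeIdealOf ⟨f.base x', hzW⟩).asIdeal := by
    rw [hpz]; exact hle (by simpa using haq)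
  exact ha ((mem_primeIdealOf (hU k) hxk _).2 fun hh =>
    (mem_primeIdealOf hW hzW a).1 h1 ((mem_basicOpen_appLE f (hUW k) hxk a).1 hh))

end Groth.Agent.H17.ZFlat
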