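import Groth.Agent.H17.ZFlat.Syz
import Groth.Agent.H17.ZFinite.Sections
import Groth.Agent.H8Props.RelFP.PullSections
import Groth.Agent.H8Props.FunDescent.Stalk
import Groth.Agent.H10Coh.SheafHom.EndInvertible
import Mathlib.AlgebraicGeometry.Morphisms.Flat

/-!
# The closure commutes with flat base change
-/

set_option autoImplicit false
set_option linter.style.haveILetI false
set_option maxHeartbeats 400000
universe u

open CategoryTheory CategoryTheory.Limits AlgebraicGeometry TopologicalSpace Opposite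
open scoped TensorProduct

namespace Groth.Agent.H17.ZFlat

open Groth.Agent.H26ZClos Groth.Agent.H17.AssPts Groth.Agent.H17.ZDepth Groth.Agent.H17.ZFinite

variable {X X' : Scheme.{u}} (f : X' ⟶ X)

theorem mem_basicOpen_appLE {W : X.Opens} {U : X'.Opens} (h : U ≤ f ⁻¹ᵁ W) {z' : X'} (hz : z' ∈ U)
    (r : Γ(X, W)) : z' ∈ X'.basicOpen (f.appLE W U h r) ↔ f.base z' ∈ X.basicOpen r := by
  have e : X'.presheaf.germ U z' hz (f.appLE W U h r) =
      f.stalkMap z' (X.presheaf.germ W (f.base z') (h hz) r) := by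
    rw [Scheme.Hom.germ_stalkMap_apply, Scheme.Hom.appLE, CommRingCat.comp_apply,
      TopCat.Presheaf.germ_res_apply]
  rw [← isUnit_germ_iff hz, e]
  exact (isUnit_map_iff (f.stalkMap z').hom _).trans (isUnit_germ_iff (U := W) (h hz) r)

/-- Denominators over the base for an ideal upstairs which is trivial off the preimage of `Z`. -/
theorem exists_denoms [IsLocallyNoetherian X] [IsLocallyNoetherian X'] {Z : Set X}
    (hZ : StableUnderSpecialization Z) {W : X.Opens} (hW : IsAffineOpen W) {U : X'.Opens}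
    (hU : IsAffineOpen U) (h : U ≤ f ⁻¹ᵁ W) (J : Ideal Γ(X', U))
    (hJ : ∀ z' ∈ U, f.base z' ∉ Z → ∃ a ∈ J, z' ∈ X'.basicOpen a) :
    ∃ G : Finset Γ(X, W), (∀ r ∈ G, f.appLE W U h r ∈ J) ∧
      ∀ z ∈ W, z ∉ Z → ∃ r ∈ G, z ∈ X.basicOpen r := by
  classical
  haveI : IsNoetherianRing Γ(X, W) := IsLocallyNoetherian.component_noetherian ⟨W, hW⟩
  haveI : IsNoetherianRing Γ(X', U) := IsLocallyNoetherian.component_noetherian ⟨U, hU⟩
  obtain ⟨G, hG⟩ := IsNoetherian.noetherian (J.comap (f.appLE W U h).hom)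
  refine ⟨G, fun r hr => hG.le (Submodule.subset_span hr), fun z hz hzZ => ?_⟩
  by_contra hc
  push_neg at hc
  have hIp : J.comap (f.appLE W U h).hom ≤ (hW.primeIdealOf ⟨z, hz⟩).asIdeal := by
    rw [← hG, Submodule.span_le]
    exact fun r hr => (mem_primeIdealOf hW hz r).2 (hc r hr)
  have key : ∀ P ∈ J.minimalPrimes, ∃ x, x ∈ P.comap (f.appLE W U h).hom ∧
      x ∉ (hW.primeIdealOf ⟨z, hz⟩).asIdeal := by
    intro P hP
    by_contra hc'
    push_neg at hc'
    obtain ⟨⟨z', hz'U⟩, hz'⟩ := H29Blow.exists_primeIdealOf_eq hU ⟨P, hP.1.1⟩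
    have hPz : (hU.primeIdealOf ⟨z', hz'U⟩).asIdeal = P := congrArg PrimeSpectrum.asIdeal hz'
    have hle : (hW.primeIdealOf ⟨f.base z', h hz'U⟩).asIdeal ≤ (hW.primeIdealOf ⟨z, hz⟩).asIdeal := fun r hr => by
      refine hc' r ?_
      rw [Ideal.mem_comap, ← hPz]
      exact (mem_primeIdealOf hU hz'U _).2 fun hh =>
        (mem_primeIdealOf hW (h hz'U) r).1 hr ((mem_basicOpen_appLE f h hz'U r).1 hh)
    obtain ⟨a, ha, haz⟩ := hJ z' hz'U fun hfz =>
      hzZ (hZ ((H29Blow.primeIdealOf_le_iff hW ⟨f.base z', h hz'U⟩ ⟨z, hz⟩).1 hle) hfz)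
    exact (mem_primeIdealOf hU hz'U a).1 (hPz ▸ hP.1.2 ha) haz
  choose x hx hxz using key
  haveI : Fintype J.minimalPrimes := (Ideal.finite_minimalPrimes_of_isNoetherianRing Γ(X', U) J).fintype
  let y := ∏ P : J.minimalPrimes, x P.1 P.2
  have hy : f.appLE W U h y ∈ J.radical := by
    rw [← Ideal.sInf_minimalPrimes, Submodule.mem_sInf]
    intro P hP
    rw [map_prod, ← Finset.mul_prod_erase Finset.univ _ (Finset.mem_univ (⟨P, hP⟩ : J.minimalPrimes))]
    exact Ideal.mul_mem_right _ _ (hx P hP)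
  obtain ⟨k, hk⟩ := hy
  have hy2 : y ∈ (hW.primeIdealOf ⟨z, hz⟩).asIdeal :=
    (hW.primeIdealOf ⟨z, hz⟩).isPrime.mem_of_pow_mem k (hIp (by rw [Ideal.mem_comap, map_pow]; exact hk))
  obtain ⟨P, -, hP⟩ := (hW.primeIdealOf ⟨z, hz⟩).isPrime.prod_mem_iff.1 hy2
  exact hxz P.1 P.2 hP

variable [Flat f] [IsLocallyNoetherian X] [IsLocallyNoetherian X']

/-- The inverse image of a closed quasi-coherent module under a flat morphism is closed. -/
theorem isZClosed_pullback {Z : Set X} (hZ : StableUnderSpecialization Z) (G : X.Modules)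
    (hG : Coh.IsQCoh G) (hc : ZClos.IsZClosed Z G) :
    ZClos.IsZClosed (f.base ⁻¹' Z) ((Scheme.Modules.pullback f).obj G) := by
  classical
  have hZ' : StableUnderSpecialization (f.base ⁻¹' Z) := hZ.preimage f.continuous
  have hM : Coh.IsQCoh ((Scheme.Modules.pullback f).obj G) := H29Fitt.isQCoh_pullback f G hG
  have hGp : ZClos.IsZPure Z G := by
    haveI : IsIso (ZClos.rhoApp Z G) := hc; exact inferInstanceAs (Mono (ZClos.rhoApp Z G))
  have hHp : ZClos.IsZPure (f.base ⁻¹' Z) ((ZClos.H0 (f.base ⁻¹' Z)).obj ((Scheme.Modules.pullback f).obj G)) := by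
    haveI : IsIso (ZClos.rhoApp (f.base ⁻¹' Z) ((ZClos.H0 (f.base ⁻¹' Z)).obj ((Scheme.Modules.pullback f).obj G))) :=
      isZClosed_H0 _
    exact inferInstanceAs (Mono (ZClos.rhoApp (f.base ⁻¹' Z) _))
  refine H10Coh.SheafHom.isIso_of_bijective_basis _
    (fun U : X'.Opens => IsAffineOpen U ∧ ∃ W : X.Opens, IsAffineOpen W ∧ U ≤ f ⁻¹ᵁ W) (fun O x hx => ?_) ?_
  · obtain ⟨W, hW, hfx, -⟩ := exists_isAffineOpen_mem_and_subset (U := (⊤ : X.Opens)) (x := f.base x) trivial
    obtain ⟨U, hU, hxU, hUO⟩ := exists_isAffineOpen_mem_and_subset (U := O ⊓ f ⁻¹ᵁ W) (x := x) ⟨hx, hfx⟩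
    exact ⟨U, ⟨hU, W, hW, fun _ hy => (hUO hy).2⟩, hxU, fun _ hy => (hUO hy).1⟩
  rintro U ⟨hU, W, hW, h⟩
  -- transfer of separation and extension to `U`
  have hdata : ∀ (T : Finset Γ(X, W)), (∀ z ∈ W, z ∉ Z → ∃ r ∈ T, z ∈ X.basicOpen r) →
      (∀ n : Γ((Scheme.Modules.pullback f).obj G, U), (∀ r ∈ T, f.appLE W U h r • n = 0) → n = 0) ∧
        ∀ m : T → Γ((Scheme.Modules.pullback f).obj G, U),
          (∀ i j : T, f.appLE W U h i.1 • m j = f.appLE W U h j.1 • m i) →
            ∃ n, ∀ i : T, f.appLE W U h i.1 • n = m i := by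
    intro T hT
    letI := (f.appLE W U h).hom.toAlgebra
    letI := Module.compHom Γ((Scheme.Modules.pullback f).obj G, U) (f.appLE W U h).hom
    haveI : IsScalarTower Γ(X, W) Γ(X', U) Γ((Scheme.Modules.pullback f).obj G, U) :=
      .of_algebraMap_smul fun _ _ => rfl
    haveI : Module.Flat Γ(X, W) Γ(X', U) := f.flat_appLE hW hU h
    have hd := divData_baseChange (H8Props.PullSections.pullLin f G h)
      (H8Props.PullSections.isBaseChange_pullLin f G h hG hW hU) (ι := T) (fun i => i.1)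
      (fun n hn => eq_of_germ_eq hZ hGp n 0 fun z hz hzZ => by
        obtain ⟨r, hr, hzr⟩ := hT z hz hzZ
        rw [map_zero]
        exact germ_eq_zero_of_smul G hz hzr (hn ⟨r, hr⟩))
      (fun m hm => exists_section_of_family hZ G hc (fun i : T => i.1)
        (fun z hz hzZ => (hT z hz hzZ).elim fun r hr => ⟨⟨r, hr.1⟩, hr.2⟩) m hm)
    exact ⟨fun n hn => hd.1 n fun i => hn i.1 i.2, hd.2⟩
  have hinj : ∀ s : Γ((Scheme.Modules.pullback f).obj G, U),
      (ZClos.rhoApp (f.base ⁻¹' Z) ((Scheme.Modules.pullback f).obj G)).app U s = 0 → s = 0 := by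
    intro s hs
    obtain ⟨T, hT1, hT2⟩ := exists_denoms f hZ hW hU h
      (LinearMap.ker (LinearMap.toSpanSingleton Γ(X', U) Γ((Scheme.Modules.pullback f).obj G, U) s))
      fun z' hz' hfz => by
        have h1 : ((Scheme.Modules.pullback f).obj G).presheaf.germ U z' hz' s = 0 :=
          (rhoStalk_bijective (Z := f.base ⁻¹' Z) ((Scheme.Modules.pullback f).obj G) hfz).1 (by
            show rhoL (f.base ⁻¹' Z) _ z' _ = rhoL (f.base ⁻¹' Z) _ z' 0
            rw [map_zero, RefHull.stalkMapₗ_germ, hs, map_zero])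
        obtain ⟨a, ha, has⟩ := exists_smul_eq_zero_of_germ _ hM hU hz' h1
        exact ⟨a, by simpa using has, ha⟩
    exact (hdata T hT2).1 s fun r hr => by simpa using hT1 r hr
  refine ⟨(injective_iff_map_eq_zero _).2 hinj, fun n => ?_⟩
  let ρ : Γ((Scheme.Modules.pullback f).obj G, U) →ₗ[Γ(X', U)]
      Γ((ZClos.H0 (f.base ⁻¹' Z)).obj ((Scheme.Modules.pullback f).obj G), U) :=
    { toFun := (ZClos.rhoApp (f.base ⁻¹' Z) ((Scheme.Modules.pullback f).obj G)).app U
      map_add' := map_add _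
      map_smul' := fun a m => (ZClos.rhoApp (f.base ⁻¹' Z) ((Scheme.Modules.pullback f).obj G)).app_smul a m }
  obtain ⟨T, hT1, hT2⟩ := exists_denoms f hZ hW hU h
    ((LinearMap.range ρ).comap (LinearMap.toSpanSingleton Γ(X', U) _ n))
    fun z' hz' hfz => by
      obtain ⟨a, ha, m, hm⟩ := exists_smul_mem_range (Z := f.base ⁻¹' Z) hM hU hz' hfz n
      exact ⟨a, ⟨m, hm.symm⟩, ha⟩
  choose m hm using fun i : T => (show ∃ m, ρ m = f.appLE W U h i.1 • n from hT1 i.1 i.2)
  have hρ : Function.Injective ρ := (injective_iff_map_eq_zero ρ).2 hinj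
  obtain ⟨s, hs⟩ := (hdata T hT2).2 m fun i j => hρ (by rw [map_smul, map_smul, hm, hm, smul_comm])
  refine ⟨s, eq_of_germ_eq hZ' hHp _ _ fun z' hz' hfz => ?_⟩
  obtain ⟨r, hr, hzr⟩ := hT2 (f.base z') (h hz') hfz
  refine ((isUnit_germ_iff hz' (f.appLE W U h r)).2 ((mem_basicOpen_appLE f h hz' r).2 hzr)).smul_left_cancel.1 ?_
  rw [← germ_smul', ← germ_smul']
  refine congrArg _ ?_
  rw [← hm ⟨r, hr⟩, ← hs ⟨r, hr⟩]
  exact (ρ.map_smul _ s).symm

omit [IsLocallyNoetherian X] [IsLocallyNoetherian X'] in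
/-- Pullback of `ρ` is bijective on stalks off the preimage. -/
theorem stalk_pullback_rho_bijective (Z : Set X) (F : X.Modules) {x : X'} (hx : f.base x ∉ Z) :
    Function.Bijective ((TopCat.Presheaf.stalkFunctor (C := Ab.{u}) x).map
      ((Scheme.Modules.pullback f).map (ZClos.rhoApp Z F)).mapPresheaf) :=
  ⟨(H8Props.FunDescent.injective_stalkLin_pullback_iff f (ZClos.rhoApp Z F) x).2 (rhoStalk_bijective F hx).1,
    (H8Props.FunDescent.surjective_stalkLin_pullback_iff f (ZClos.rhoApp Z F) x).2 (rhoStalk_bijective F hx).2⟩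

/-- The closure commutes with flat base change. -/
theorem nonempty_pullback_H0_iso {Z : Set X} (hZ : StableUnderSpecialization Z) (F : X.Modules)
    (hF : Coh.IsQCoh F) :
    Nonempty ((Scheme.Modules.pullback f).obj ((ZClos.H0 Z).obj F) ≅
      (ZClos.H0 (f.base ⁻¹' Z)).obj ((Scheme.Modules.pullback f).obj F)) := by
  have hZ' : StableUnderSpecialization (f.base ⁻¹' Z) := hZ.preimage f.continuous
  have hN : ZClos.IsZClosed (f.base ⁻¹' Z) ((Scheme.Modules.pullback f).obj ((ZClos.H0 Z).obj F)) :=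
    isZClosed_pullback f hZ _ (isQCoh_H0 Z F hF) (isZClosed_H0 F)
  haveI : IsIso (ZClos.rhoApp (f.base ⁻¹' Z) ((Scheme.Modules.pullback f).obj ((ZClos.H0 Z).obj F))) := hN
  let u := (Scheme.Modules.pullback f).map (ZClos.rhoApp Z F)
  let v := (ZClos.H0 (f.base ⁻¹' Z)).map u ≫ inv (ZClos.rhoApp (f.base ⁻¹' Z) _)
  have hv : ZClos.rhoApp (f.base ⁻¹' Z) _ ≫ v = u := by
    have hn : ZClos.rhoApp (f.base ⁻¹' Z) _ ≫ (ZClos.H0 (f.base ⁻¹' Z)).map u =
      u ≫ ZClos.rhoApp (f.base ⁻¹' Z) _ := ((ZClos.rho (f.base ⁻¹' Z)).naturality u).symm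
    rw [← Category.assoc, hn, Category.assoc, IsIso.hom_inv_id, Category.comp_id]
  haveI : IsIso v := by
    refine isIso_of_stalk_bijective hZ' (isZClosed_H0 _) (inferInstanceAs (Mono (ZClos.rhoApp (f.base ⁻¹' Z) _))) v
      fun x hx => ?_
    have h1 := stalk_pullback_rho_bijective f Z F hx
    change Function.Bijective ((stalkFun x).map u) at h1
    rw [← hv, Functor.map_comp] at h1
    exact (Function.Bijective.of_comp_iff _ (rhoStalk_bijective _ hx)).1 h1
  exact ⟨(asIso v).symm⟩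

end Groth.Agent.H17.ZFlat
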