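import Groth.Agent.H17.ZDepth.Base
import Mathlib.RingTheory.Flat.Basic
import Mathlib.RingTheory.IsTensorProduct
import Mathlib.LinearAlgebra.TensorProduct.Pi

/-!
# Closed modules: compatible families along a closed subset, and flat base change
-/

set_option autoImplicit false
set_option linter.style.haveILetI false
universe u

open CategoryTheory CategoryTheory.Limits AlgebraicGeometry TopologicalSpace Opposite
open scoped TensorProduct

namespace Groth.Agent.H17.ZFlat

open Groth.Agent.H26ZClos Groth.Agent.H17.AssPts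

/-- Separation and extension of compatible families survive flat base change. -/
theorem divData_baseChange {A A' : Type u} [CommRing A] [CommRing A'] [Algebra A A'] [Module.Flat A A']
    {N N' : Type u} [AddCommGroup N] [Module A N] [AddCommGroup N'] [Module A N'] [Module A' N']
    [IsScalarTower A A' N'] (g : N →ₗ[A] N') (hg : IsBaseChange A' g) {ι : Type u} [Fintype ι] (r : ι → A)
    (hinj : ∀ n : N, (∀ i, r i • n = 0) → n = 0)
    (hsurj : ∀ m : ι → N, (∀ i j, r i • m j = r j • m i) → ∃ n, ∀ i, r i • n = m i) :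
    (∀ n' : N', (∀ i, r i • n' = 0) → n' = 0) ∧
      ∀ m' : ι → N', (∀ i j, r i • m' j = r j • m' i) → ∃ n', ∀ i, r i • n' = m' i := by
  classical
  let α : N →ₗ[A] (ι → N) := LinearMap.pi fun i => LinearMap.lsmul A N (r i)
  let β : (ι → N) →ₗ[A] (ι × ι → N) :=
    LinearMap.pi fun p => r p.1 • LinearMap.proj p.2 - r p.2 • LinearMap.proj p.1
  have hex : Function.Exact α β := fun m => ⟨fun hm => by
      obtain ⟨n, hn⟩ := hsurj m fun i j => sub_eq_zero.1 (congrFun hm (i, j))
      exact ⟨n, funext hn⟩, by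
      rintro ⟨n, rfl⟩
      funext p
      show r p.1 • r p.2 • n - r p.2 • r p.1 • n = 0
      rw [smul_comm, sub_self]⟩
  have hαi : Function.Injective α := (injective_iff_map_eq_zero α).2 fun n hn => hinj n (congrFun hn)
  have hα' : Function.Injective (α.lTensor A') := Module.Flat.lTensor_preserves_injective_linearMap _ hαi
  have hex' : Function.Exact (α.lTensor A') (β.lTensor A') := Module.Flat.lTensor_exact A' hex
  let e : A' ⊗[A] N ≃ₗ[A'] N' := hg.equiv
  have he : ∀ (a : A') (n : N), e (a ⊗ₜ n) = a • g n := fun a n => hg.equiv_tmul a n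
  let E : ∀ (κ : Type u) [Fintype κ], A' ⊗[A] (κ → N) ≃ₗ[A'] (κ → N') := fun κ _ =>
    (TensorProduct.piRight A A' A' fun _ : κ => N).trans (LinearEquiv.piCongrRight fun _ => e)
  have hE : ∀ (κ : Type u) [Fintype κ] (a : A') (m : κ → N) (k : κ), E κ (a ⊗ₜ m) k = a • g (m k) :=
    fun κ _ a m k => by
      show e ((TensorProduct.piRight A A' A' (fun _ : κ => N) (a ⊗ₜ m)) k) = _
      rw [TensorProduct.piRight_apply, TensorProduct.piRightHom_tmul, he]
  have hαc : ∀ t i, E ι (α.lTensor A' t) i = r i • e t := fun t i => by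
    induction t using TensorProduct.induction_on with
    | zero => rw [map_zero, map_zero, map_zero, smul_zero]; rfl
    | add x y hx hy => rw [map_add, map_add, Pi.add_apply, hx, hy, map_add, smul_add]
    | tmul a n =>
      rw [LinearMap.lTensor_tmul, hE, he]
      show a • g (r i • n) = _
      rw [map_smul, smul_comm]
  have hβc : ∀ t p, E (ι × ι) (β.lTensor A' t) p = r p.1 • E ι t p.2 - r p.2 • E ι t p.1 := fun t p => by
    induction t using TensorProduct.induction_on with
    | zero =>
      rw [map_zero, map_zero, map_zero]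
      show (0 : N') = r p.1 • (0 : N') - r p.2 • (0 : N')
      rw [smul_zero, smul_zero, sub_zero]
    | add x y hx hy =>
      simp only [map_add, Pi.add_apply, hx, hy, smul_add]
      abel
    | tmul a m =>
      rw [LinearMap.lTensor_tmul, hE, hE, hE]
      show a • g (r p.1 • m p.2 - r p.2 • m p.1) = _
      rw [map_sub, map_smul, map_smul, smul_sub, smul_comm a, smul_comm a]
  refine ⟨fun n' hn' => ?_, fun m' hm' => ?_⟩
  · have h : α.lTensor A' (e.symm n') = 0 := (E ι).injective (funext fun i => by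
      rw [hαc, e.apply_symm_apply, hn' i, map_zero]; rfl)
    exact e.symm.injective ((hα' (h.trans (map_zero _).symm)).trans (map_zero e.symm).symm)
  · have h : β.lTensor A' ((E ι).symm m') = 0 := (E (ι × ι)).injective (funext fun p => by
      rw [hβc, (E ι).apply_symm_apply, hm' p.1 p.2, sub_self, map_zero]; rfl)
    obtain ⟨t, ht⟩ := (hex' _).1 h
    exact ⟨e t, fun i => by rw [← hαc, ht, (E ι).apply_symm_apply]⟩

variable {X : Scheme.{u}}

/-- On a closed module, families compatible along elements generating outside `Z` come from sections. -/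
theorem exists_section_of_family [IsLocallyNoetherian X] {Z : Set X} (hZ : StableUnderSpecialization Z)
    (G : X.Modules) (hG : ZClos.IsZClosed Z G) {V : X.Opens} {ι : Type u} (r : ι → Γ(X, V))
    (hr : ∀ z ∈ V, z ∉ Z → ∃ i, z ∈ X.basicOpen (r i)) (m : ι → Γ(G, V))
    (hm : ∀ i j, r i • m j = r j • m i) : ∃ n : Γ(G, V), ∀ i, r i • n = m i := by
  classical
  let C : Set X := (⋃ i, (X.basicOpen (r i) : Set X))ᶜ
  have hC : IsClosed C := (isOpen_iUnion fun i => (X.basicOpen (r i)).2).isClosed_compl
  have hCV : C ∩ (V : Set X) ⊆ Z := fun z ⟨hzC, hzV⟩ => by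
    by_contra hzZ
    obtain ⟨i, hi⟩ := hr z hzV hzZ
    exact hzC (Set.mem_iUnion.2 ⟨i, hi⟩)
  let T : ZClos.Cl Z := clClosure hZ C (V : Set X) hC V.2 hCV
  let W : X.Opens := V ⊓ T.U
  have hW : ∀ y ∈ W, ∃ i, y ∈ X.basicOpen (r i) := fun y hy => by
    by_contra hc
    push_neg at hc
    refine hy.2 (show y ∈ closure (C ∩ (V : Set X)) from subset_closure ⟨?_, hy.1⟩)
    exact fun hyU => by obtain ⟨i, hi⟩ := Set.mem_iUnion.1 hyU; exact hc i hi
  have hres := (isZClosed_iff_res Z G).1 hG T V
  let O : ι → X.Opens := fun i => X.basicOpen (r i) ⊓ W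
  have hOV : ∀ i, O i ≤ V := fun i => inf_le_right.trans inf_le_left
  have hu : ∀ i, IsUnit (X.presheaf.map (homOfLE (hOV i)).op (r i)) := fun i => by
    have h1 : IsUnit (X.presheaf.map (homOfLE (X.basicOpen_le (r i))).op (r i)) :=
      RingedSpace.isUnit_res_basicOpen X.toRingedSpace (r i)
    have h2 := h1.map (X.presheaf.map (homOfLE (inf_le_left : O i ≤ X.basicOpen (r i))).op).hom
    rw [show X.presheaf.map (homOfLE (hOV i)).op = X.presheaf.map (homOfLE (X.basicOpen_le (r i))).op ≫
      X.presheaf.map (homOfLE (inf_le_left : O i ≤ X.basicOpen (r i))).op from Functor.map_comp _ _ _]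
    exact h2
  choose v hv using fun i => (hu i).exists_left_inv
  let e : ∀ i, Γ(G, O i) := fun i => v i • G.presheaf.map (homOfLE (hOV i)).op (m i)
  have key : ∀ i j y (hy : y ∈ O i) (hyV : y ∈ V), X.presheaf.germ V y hyV (r j) •
      G.presheaf.germ (O i) y hy (e i) = G.presheaf.germ V y hyV (m j) := by
    intro i j y hy hyV
    have h1 : X.presheaf.germ V y hyV (r i) • G.presheaf.germ (O i) y hy (e i) =
        G.presheaf.germ V y hyV (m i) := by
      rw [← TopCat.Presheaf.germ_res_apply X.presheaf (homOfLE (hOV i)) y hy (r i), ← germ_smul',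
        smul_smul, mul_comm, hv i, one_smul, TopCat.Presheaf.germ_res_apply]
    refine ((isUnit_germ_iff hyV (r i)).2 hy.1).smul_left_cancel.1 ?_
    rw [smul_comm, h1, ← germ_smul', ← germ_smul', hm i j]
  have hcompat : TopCat.Presheaf.IsCompatible G.presheaf O e := by
    intro i j
    refine TopCat.Presheaf.section_ext ⟨G.presheaf, G.isSheaf⟩ _ _ _ fun y hy => ?_
    show G.presheaf.germ _ y hy (G.presheaf.map _ (e i)) = G.presheaf.germ _ y hy (G.presheaf.map _ (e j))
    rw [TopCat.Presheaf.germ_res_apply, TopCat.Presheaf.germ_res_apply]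
    have hyV : y ∈ V := hOV i hy.1
    exact ((isUnit_germ_iff hyV (r i)).2 hy.1.1).smul_left_cancel.1
      ((key i i y hy.1 hyV).trans (key j i y hy.2 hyV).symm)
  obtain ⟨s, hs, -⟩ := TopCat.Sheaf.existsUnique_gluing' ⟨G.presheaf, G.isSheaf⟩ O W
    (fun i => homOfLE inf_le_right)
    (fun y hy => Opens.mem_iSup.2 ((hW y hy).imp fun i hi => ⟨hi, hy⟩)) e hcompat
  obtain ⟨n, hn⟩ := hres.2 s
  refine ⟨n, fun j => hres.1 ?_⟩
  show G.presheaf.map (homOfLE (inf_le_left : W ≤ V)).op (r j • n) =
    G.presheaf.map (homOfLE (inf_le_left : W ≤ V)).op (m j)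
  refine TopCat.Presheaf.section_ext ⟨G.presheaf, G.isSheaf⟩ _ _ _ fun y hy => ?_
  show G.presheaf.germ W y hy _ = G.presheaf.germ W y hy _
  rw [TopCat.Presheaf.germ_res_apply, TopCat.Presheaf.germ_res_apply, germ_smul']
  obtain ⟨i, hi⟩ := hW y hy
  have h3 : G.presheaf.germ V y hy.1 n = G.presheaf.germ (O i) y ⟨hi, hy⟩ (e i) := by
    rw [← hs i]
    show _ = G.presheaf.germ (O i) y _ (G.presheaf.map _ s)
    rw [TopCat.Presheaf.germ_res_apply, ← hn]
    exact (TopCat.Presheaf.germ_res_apply _ _ y _ n).symm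
  rw [h3]
  exact key i j y ⟨hi, hy⟩ hy.1

end Groth.Agent.H17.ZFlat
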